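import Cfsg.Agent.Helper77.KW.Defs
import Cfsg.Agent.Helper78.IrrTransport
import Cfsg.Agent.Helper16.Osima

/-!
# S4588 (helper77): the small pieces (E0), (L1), (C1), (R2), (R4)
-/

set_option autoImplicit false

namespace Cfsg.Agent.Helper77.KW

open Cfsg
open scoped ComplexConjugate
open Cfsg.Agent.S4426 (cut)

universe u

section E

variable {K : Type u} [Group K] [Fintype K]

/-- (E0) `e ≥ 1` -/
theorem PimData.e_pos {p : ℕ} [hp : Fact p.Prime] {M : Ideal AlgInt} (D : PimData p M K)
    (hM : M.IsPrime) : 1 ≤ D.e := by
  by_contra hlt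
  have he : D.e = 0 := by omega
  have h1 := Helper78.principalIrr_mem_principalBlock M hM K
  rcases (D.hblock _).mp h1 with ⟨i, -⟩ | hY
  · exact absurd i.2 (by omega)
  · have h2 := D.hrel _ hY 1 (by
      rw [orderOf_one]
      exact hp.out.not_dvd_one)
    have hempty : IsEmpty (Fin D.e) := by
      rw [he]
      infer_instance
    rw [Finset.sum_of_isEmpty] at h2
    have h3 : ((Helper79.principalIrr K : IrrCharacter K) : K → ℂ) 1 = 1 := rfl
    rw [h3, mul_one] at h2
    rcases D.hδ with h | h <;> rw [h] at h2 <;> norm_num at h2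

/-- (E4) the PIM-type functions vanish on `p`-singular elements -/
theorem PimData.pim_singular {p : ℕ} {M : Ideal AlgInt} (D : PimData p M K) (i : Fin D.e)
    (g : K) (hg : p ∣ orderOf g) : D.pim i g = 0 :=
  D.hvan i g hg

end E

section L

variable {H : Type u} [Group H] [Fintype H] {p : ℕ} {M : Ideal AlgInt}
  (z : H) [(Subgroup.zpowers z).Normal] (n : ℕ) (D : PimData p M (H ⧸ Subgroup.zpowers z))

theorem isClassFunction_pim {K : Type u} [Group K] [Fintype K] (D : PimData p M K) (i : Fin D.e) :
    IsClassFunction K (D.pim i) := by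
  intro g h
  unfold PimData.pim
  rw [Helper16.irr_isClassFunction (D.θ i) g h]
  congr 2
  exact Finset.sum_congr rfl fun ψ _ => Helper16.irr_isClassFunction ψ g h

/-- (L1) the lifted functions are class functions -/
theorem isClassFunction_lift (i : Fin D.e) : IsClassFunction H (lift z n D i) := by
  intro g h
  unfold lift
  have : (QuotientGroup.mk (h * g * h⁻¹) : H ⧸ Subgroup.zpowers z) =
      (QuotientGroup.mk h) * (QuotientGroup.mk g) * (QuotientGroup.mk h)⁻¹ := by
    simp
  rw [this, isClassFunction_pim D i]

theorem isClassFunction_pad (m : ℕ) : IsClassFunction H (pad z n D m) := by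
  unfold pad
  split_ifs with h
  · exact isClassFunction_lift z n D _
  · intro g h
    rfl

/-- (C1) the test functions are class functions -/
theorem isClassFunction_test (j : Fin (D.e + 1)) : IsClassFunction H (test z n D j) := by
  intro g h
  unfold test
  simp only [Pi.sub_apply]
  rw [isClassFunction_pad z n D _ g h, isClassFunction_pad z n D _ g h]

end L

section R

variable {G : Type u} [Group G] [Fintype G]

/-- (R2) characters of `p'`-degree in the principal block have height zero -/
theorem blockHeight_principal_eq_zero (p : ℕ) [Fact p.Prime] (M : Ideal AlgInt)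
    (hM : IsPModular p M) (χ : IrrCharacter G) (hχ : χ ∈ principalBlock M G)
    (hdeg : ¬ p ∣ charDegree (χ : G → ℂ)) :
    blockHeight p (principalBlock M G) (χ : G → ℂ) = 0 := by
  unfold blockHeight
  rw [Nat.factorization_eq_zero_of_not_dvd hdeg]
  exact Nat.zero_sub _

/-- (R4) the order of the quotient by a central cyclic `p`-subgroup -/
theorem factorization_card_quotient_zpowers {H : Type u} [Group H] [Fintype H] (p : ℕ)
    [hp : Fact p.Prime] (z : H) [(Subgroup.zpowers z).Normal] (n : ℕ) (hzn : orderOf z = p ^ n) :
    (Nat.card (H ⧸ Subgroup.zpowers z)).factorization p + n = (Nat.card H).factorization p := by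
  have h1 : Nat.card H = Nat.card (H ⧸ Subgroup.zpowers z) * Nat.card (Subgroup.zpowers z) :=
    Subgroup.card_eq_card_quotient_mul_card_subgroup (Subgroup.zpowers z)
  rw [Nat.card_zpowers, hzn] at h1
  rw [h1, Nat.factorization_mul (Nat.card_pos.ne') (pow_ne_zero _ hp.out.ne_zero)]
  simp [Nat.Prime.factorization_self hp.out]

end R

end Cfsg.Agent.Helper77.KW
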