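import Cfsg.Agent.Helper76.QuotientRank
import Cfsg.Agent.Helper16.Contribution5
import Cfsg.Agent.Helper16.CycloIneq

/-!
# S4588 (helper77): the Külshammer–Wada bound with explicit PIM-type functions — definitions

`PimData p M K`: the principal block of `K` is `{θ i} ∪ Y`, the members of `Y` satisfy
`δ ψ = ∑ ε i θ i` on `p`-regular elements, and the functions `pim i = θ i + ε i δ ∑_{ψ ∈ Y} ψ`
vanish on `p`-singular elements.

`lift z D i = p^n • (pim i ∘ mk)` on a group `H` with a central element `z` of order `p^n`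
(`K = H ⧸ ⟨z⟩`); `cut p 1 (lift z D i)` is the PIM-type function of `H`.
-/

set_option autoImplicit false

noncomputable section

namespace Cfsg.Agent.Helper77.KW

open Cfsg
open scoped ComplexConjugate
open Cfsg.Agent.S4426 (cut)

universe u

/-- PIM-type data for the principal `p`-block of `K`. -/
structure PimData (p : ℕ) (M : Ideal AlgInt) (K : Type u) [Group K] [Fintype K] where
  e : ℕ
  θ : Fin e → IrrCharacter K
  ε : Fin e → ℤ
  δ : ℤ
  Y : Finset (IrrCharacter K)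
  hθ : Function.Injective θ
  hε : ∀ i, ε i = 1 ∨ ε i = -1
  hδ : δ = 1 ∨ δ = -1
  hdisj : ∀ i, θ i ∉ Y
  hblock : ∀ ψ : IrrCharacter K, ψ ∈ principalBlock M K ↔ (∃ i, ψ = θ i) ∨ ψ ∈ Y
  hrel : ∀ ψ ∈ Y, ∀ g : K, ¬ p ∣ orderOf g →
    (δ : ℂ) * (ψ : K → ℂ) g = ∑ i, (ε i : ℂ) * ((θ i : IrrCharacter K) : K → ℂ) g
  hvan : ∀ (i : Fin e) (g : K), p ∣ orderOf g →
    ((θ i : IrrCharacter K) : K → ℂ) g + (ε i : ℂ) * (δ : ℂ) * ∑ ψ ∈ Y, (ψ : K → ℂ) g = 0

variable {p : ℕ} {M : Ideal AlgInt} {K : Type u} [Group K] [Fintype K]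

/-- the number of exceptional characters. -/
def PimData.t (D : PimData p M K) : ℕ := D.Y.card

/-- the PIM-type function `θ i + ε i δ ∑_{ψ ∈ Y} ψ`. -/
def PimData.pim (D : PimData p M K) (i : Fin D.e) : K → ℂ :=
  fun g => ((D.θ i : IrrCharacter K) : K → ℂ) g +
    (D.ε i : ℂ) * (D.δ : ℂ) * ∑ ψ ∈ D.Y, (ψ : K → ℂ) g

variable {H : Type u} [Group H] [Fintype H]

/-- the signed lifted function `ε i p^n (pim i ∘ mk)` on `H`, `K = H ⧸ ⟨z⟩`, `n` with
`o(z) = p^n`. -/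
def lift (z : H) [(Subgroup.zpowers z).Normal] (n : ℕ)
    (D : PimData p M (H ⧸ Subgroup.zpowers z)) (i : Fin D.e) : H → ℂ :=
  fun c => (D.ε i : ℂ) * ((p : ℂ) ^ n * D.pim i (QuotientGroup.mk c))

/-- the padded sequence `0, lift 0, …, lift (e-1), 0, 0, …`. -/
def pad (z : H) [(Subgroup.zpowers z).Normal] (n : ℕ)
    (D : PimData p M (H ⧸ Subgroup.zpowers z)) (m : ℕ) : H → ℂ :=
  if h : 0 < m ∧ m - 1 < D.e then lift z n D ⟨m - 1, h.2⟩ else 0

/-- the test functions `pad (j+1) - pad j`, `j ≤ e`. -/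
def test (z : H) [(Subgroup.zpowers z).Normal] (n : ℕ)
    (D : PimData p M (H ⧸ Subgroup.zpowers z)) (j : Fin (D.e + 1)) : H → ℂ :=
  pad z n D ((j : ℕ) + 1) - pad z n D (j : ℕ)

end Cfsg.Agent.Helper77.KW

end
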