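import Cfsg.Agent.Helper77.KW.Own
import Cfsg.Agent.Helper82.KWE1b
import Cfsg.Agent.Helper82.KWE3
import Cfsg.Agent.Helper42.KWE2
import Cfsg.Agent.Helper87.KWL2c

/-!
# S4588 (helper77): glue pieces (E) and (C1')
-/

set_option autoImplicit false

namespace Cfsg.Agent.Helper77.KW

open Cfsg
open scoped ComplexConjugate
open Cfsg.Agent.S4426 (cut)
open Cfsg.Agent.Helper82.KW (exists_pimData_coprime exists_pimData_odd)
open Cfsg.Agent.Helper42.KW (exists_pimData_two)
open Cfsg.Agent.Helper87.KW (lift_int)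

universe u

section E

variable {K : Type u} [Group K] [Fintype K]

/-- (E) PIM data when `p^2 ∤ |K|` -/
theorem exists_pimData (p : ℕ) [Fact p.Prime] (M : Ideal AlgInt) (hM : IsPModular p M)
    (hK : (Nat.card K).factorization p ≤ 1) :
    ∃ D : PimData p M K, D.e + D.t ≤ p ^ (Nat.card K).factorization p := by
  rcases Nat.lt_or_ge ((Nat.card K).factorization p) 1 with h0 | h1
  · have h0' : (Nat.card K).factorization p = 0 := by omega
    obtain ⟨D, hD⟩ := exists_pimData_coprime p M hM h0'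
    exact ⟨D, by rw [h0', pow_zero]; exact hD⟩
  · have h1' : (Nat.card K).factorization p = 1 := le_antisymm hK h1
    by_cases h2 : p = 2
    · subst h2
      obtain ⟨D, hD⟩ := exists_pimData_two M hM h1'
      exact ⟨D, by rw [h1', pow_one]; exact hD⟩
    · obtain ⟨D, hD⟩ := exists_pimData_odd p M hM h2 h1'
      exact ⟨D, by rw [h1', pow_one]; exact hD⟩

end E

section L

variable {H : Type u} [Group H] [Fintype H] {p : ℕ} [Fact p.Prime] {M : Ideal AlgInt}
  (z : H) [(Subgroup.zpowers z).Normal] (n : ℕ) (D : PimData p M (H ⧸ Subgroup.zpowers z))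

theorem classInner_cut_sub (a b ξ : H → ℂ) :
    classInner (cut p 1 (a - b)) ξ = classInner (cut p 1 a) ξ - classInner (cut p 1 b) ξ := by
  unfold classInner cut
  rw [← mul_sub, ← Finset.sum_sub_distrib]
  congr 1
  refine Finset.sum_congr rfl fun x _ => ?_
  by_cases hx : p ∣ orderOf x
  · simp [hx]
  · simp only [hx, if_false, Pi.sub_apply]
    ring

theorem classInner_cut_zero (ξ : H → ℂ) : classInner (cut p 1 (0 : H → ℂ)) ξ = 0 := by
  unfold classInner cut
  simp

theorem pad_int (hM : IsPModular p M) (hz : z ∈ Subgroup.center H) (hzn : orderOf z = p ^ n)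
    (Q : Sylow p H) (hQ : ∀ a b : H, a ∈ (Q : Subgroup H) → b ∈ (Q : Subgroup H) → a * b = b * a)
    (m : ℕ) (ξ : IrrCharacter H) :
    ∃ k : ℤ, classInner (cut p 1 (pad z n D m)) (ξ : H → ℂ) = (k : ℂ) := by
  unfold pad
  split_ifs with h
  · exact lift_int z n D hM hz hzn Q hQ _ ξ
  · exact ⟨0, by rw [classInner_cut_zero]; simp⟩

/-- (C1') integrality for the test functions -/
theorem test_int (hM : IsPModular p M) (hz : z ∈ Subgroup.center H) (hzn : orderOf z = p ^ n)
    (Q : Sylow p H) (hQ : ∀ a b : H, a ∈ (Q : Subgroup H) → b ∈ (Q : Subgroup H) → a * b = b * a)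
    (j : Fin (D.e + 1)) (ξ : IrrCharacter H) :
    ∃ m : ℤ, classInner (cut p 1 (test z n D j)) (ξ : H → ℂ) = (m : ℂ) := by
  obtain ⟨a, ha⟩ := pad_int z n D hM hz hzn Q hQ ((j : ℕ) + 1) ξ
  obtain ⟨b, hb⟩ := pad_int z n D hM hz hzn Q hQ (j : ℕ) ξ
  refine ⟨a - b, ?_⟩
  unfold test
  rw [classInner_cut_sub, ha, hb]
  push_cast
  ring

end L

end Cfsg.Agent.Helper77.KW
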