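import Cfsg.Agent.Helper77.KW.Defs
import Cfsg.Agent.Helper16.Contribution5

/-!
# S4588 (helper77): Part T (power form, Parseval on sections, the counting theorem)
-/

set_option autoImplicit false

namespace Cfsg.Agent.Helper77.KW

open Cfsg
open scoped ComplexConjugate
open Cfsg.Agent.S4426 (cut)

universe u

variable {G : Type u} [Group G] [Fintype G]

theorem isClassFunction_shift (H : Subgroup G) (yH : H) (hyc : yH ∈ Subgroup.center H)
    (χ : IrrCharacter G) (γ : ℕ) :
    IsClassFunction H (fun c : H => (χ : G → ℂ) ((yH : G) ^ γ * (c : G))) := by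
  intro g h
  have hc : yH ^ γ ∈ Subgroup.center H := Subgroup.pow_mem _ hyc γ
  have hcomm : (yH : G) ^ γ * (h : G) = (h : G) * (yH : G) ^ γ := by
    have := (Subgroup.mem_center_iff.mp hc) h
    have h2 := (congrArg Subtype.val this).symm
    simpa using h2
  have : (yH : G) ^ γ * ((h * g * h⁻¹ : H) : G) =
      (h : G) * ((yH : G) ^ γ * (g : G)) * (h : G)⁻¹ := by
    push_cast
    rw [← mul_assoc, ← mul_assoc, hcomm]
    group
  show (χ : G → ℂ) ((yH : G) ^ γ * ((h * g * h⁻¹ : H) : G)) = _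
  rw [this]
  exact Helper16.irr_isClassFunction χ _ _

/-- (T1) power form of the numbers `⟨cut g, χ(y^γ ·)⟩` -/
theorem exists_pow_form_test' (p : ℕ) [Fact p.Prime] (H : Subgroup G) [Fintype H] (yH : H)
    (hyc : yH ∈ Subgroup.center H) (n : ℕ) (hy : yH ^ (p ^ n) = 1) (g : H → ℂ)
    (hint : ∀ ξ : IrrCharacter H, ∃ m : ℤ, classInner (cut p 1 g) (ξ : H → ℂ) = (m : ℂ))
    (χ : IrrCharacter G) :
    ∃ (A : IrrCharacter H → ℤ) (μ : IrrCharacter H → ℂ), (∀ ξ, μ ξ ^ (p ^ n) = 1) ∧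
      ∀ γ : ℕ, classInner (cut p 1 g)
          (fun c : H => (χ : G → ℂ) ((yH : G) ^ γ * (c : G))) = ∑ ξ, (A ξ : ℂ) * μ ξ ^ γ := by
  classical
  choose lam hlam1 hlam using fun θ : IrrCharacter H => Helper16.irr_central_mul_norm θ hyc
  have hlamc : ∀ θ : IrrCharacter H, lam θ * conj (lam θ) = 1 := by
    intro θ
    rw [Complex.mul_conj, Complex.normSq_eq_norm_sq, hlam1 θ]
    simp
  have hlamN : ∀ θ : IrrCharacter H, lam θ ^ (p ^ n) = 1 := fun θ =>
    Helper16.central_scalar_pow_eq_one θ yH (lam θ) (hlam θ) hy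
  have hnat : ∀ θ : IrrCharacter H, ∃ m : ℕ,
      classInner (fun c : H => (χ : G → ℂ) (c : G)) (θ : H → ℂ) = (m : ℂ) := fun θ =>
    Helper15.isCharacter_inner_nat (Helper74.isCharacter_restrict H (Helper74.irr_isCharacter χ))
      (Helper74.irr_isCharacter θ)
  choose aa haa using hnat
  choose mm hmm using hint
  have hshift : ∀ (θ : IrrCharacter H) (γ : ℕ),
      classInner (fun c : H => (χ : G → ℂ) ((yH : G) ^ γ * (c : G))) (θ : H → ℂ) =
        lam θ ^ γ * (aa θ : ℂ) := by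
    intro θ γ
    have hc : lam θ ^ γ * conj (lam θ ^ γ) = 1 := by
      rw [map_pow, ← mul_pow, hlamc θ, one_pow]
    have := Helper16.classInner_central_shift θ (yH ^ γ) (lam θ ^ γ) hc
      (fun g => Helper16.irr_central_pow_mul θ yH (lam θ) (hlam θ) γ g)
      (fun c : H => (χ : G → ℂ) (c : G))
    rw [haa θ] at this
    rw [← this]
    rfl
  refine ⟨fun ξ => (aa ξ : ℤ) * mm ξ, fun ξ => conj (lam ξ), ?_, ?_⟩
  · intro ξ
    rw [← map_pow, hlamN, map_one]
  · intro γ
    have eg := Helper79.classFunction_expansion (isClassFunction_shift H yH hyc χ γ)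
    have : classInner (cut p 1 g) (fun c : H => (χ : G → ℂ) ((yH : G) ^ γ * (c : G))) =
        classInner (cut p 1 g) (∑ θ' : IrrCharacter H,
          classInner (fun c : H => (χ : G → ℂ) ((yH : G) ^ γ * (c : G))) (θ' : H → ℂ) •
            (θ' : H → ℂ)) := by
      rw [← eg]
    rw [this, Helper79.classInner_sum_right]
    refine Finset.sum_congr rfl (fun θ' _ => ?_)
    rw [Helper79.classInner_smul_right, hshift, hmm θ']
    rw [map_mul, map_pow, Complex.conj_natCast]
    push_cast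
    ring


theorem section_parseval_gen (p : ℕ) [Fact p.Prime] (H : Subgroup G) [Fintype H] (x : G)
    (hH : H = Subgroup.centralizer ({x} : Set G)) (hx : ∃ k : ℕ, orderOf x = p ^ k)
    (f : H → ℂ) {g : H → ℂ} (hg : IsClassFunction H g) :
    ∑ ψ : IrrCharacter G,
      classInner (cut p 1 f) (fun c : H => (ψ : G → ℂ) (x * (c : G))) *
      conj (classInner (cut p 1 g) (fun c : H => (ψ : G → ℂ) (x * (c : G)))) =
    classInner (cut p 1 f) g := by
  subst hH
  exact Helper16.section_parseval x hx f hg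

/-- (T2a) Parseval on the section of `y^γ`, general subgroup form -/
theorem section_parseval_pow' (p : ℕ) [hp : Fact p.Prime] (H : Subgroup G) [Fintype H] (yH : H)
    (hHy : H = Subgroup.centralizer ({(yH : G)} : Set G)) (n : ℕ)
    (hy : orderOf (yH : G) = p ^ n) (γ : ℕ) (hγ : Nat.Coprime (p ^ n) γ) (f : H → ℂ)
    {g : H → ℂ} (hg : IsClassFunction H g) :
    ∑ ψ : IrrCharacter G,
      classInner (cut p 1 f) (fun c : H => (ψ : G → ℂ) ((yH : G) ^ γ * (c : G))) *
      conj (classInner (cut p 1 g) (fun c : H => (ψ : G → ℂ) ((yH : G) ^ γ * (c : G)))) =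
    classInner (cut p 1 f) g := by
  have hcop : Nat.Coprime γ (orderOf (yH : G)) := by
    rw [hy]
    exact hγ.symm
  exact section_parseval_gen p H ((yH : G) ^ γ)
    (hHy.trans (Helper16.centralizer_pow_eq_of_coprime (yH : G) hcop))
    (Helper16.exists_orderOf_pow_eq_prime_pow hp.out (yH : G) hy γ) f hg


/-- (T2b) **the counting theorem**: characters detected by two of the test functions -/
theorem card_le_of_tests' (p : ℕ) [Fact p.Prime] (H : Subgroup G) [Fintype H] (yH : H)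
    (hyc : yH ∈ Subgroup.center H) (hHy : H = Subgroup.centralizer ({(yH : G)} : Set G))
    (n : ℕ) (hy : orderOf (yH : G) = p ^ n) {ι : Type} [Fintype ι] (g : ι → H → ℂ)
    (hcl : ∀ j, IsClassFunction H (g j))
    (hint : ∀ j (ξ : IrrCharacter H), ∃ m : ℤ, classInner (cut p 1 (g j)) (ξ : H → ℂ) = (m : ℂ))
    (N0 : ℕ) (hnorm : ∑ j, classInner (cut p 1 (g j)) (g j) = ((2 * N0 : ℕ) : ℂ))
    (S : Finset (IrrCharacter G))
    (hS : ∀ χ ∈ S, ∃ j₁ j₂ : ι, j₁ ≠ j₂ ∧
      classInner (cut p 1 (g j₁)) (fun c : H => (χ : G → ℂ) ((yH : G) * (c : G))) ≠ 0 ∧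
      classInner (cut p 1 (g j₂)) (fun c : H => (χ : G → ℂ) ((yH : G) * (c : G))) ≠ 0) :
    S.card ≤ N0 := by
  classical
  have hpr : p.Prime := Fact.out
  set Γ := (Finset.range (p ^ n)).filter (fun γ => Nat.Coprime (p ^ n) γ) with hΓ
  have hΓcard : Γ.card = (p ^ n).totient := (Nat.totient_eq_card_coprime (p ^ n)).symm
  have hφpos : (0 : ℝ) < ((p ^ n).totient : ℝ) := by
    exact_mod_cast Nat.totient_pos.mpr (pow_pos hpr.pos n)
  have hyH : yH ^ (p ^ n) = 1 := by
    apply Subtype.ext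
    push_cast
    rw [← hy]
    exact pow_orderOf_eq_one _
  set a : ι → IrrCharacter G → ℕ → ℂ := fun j χ γ =>
    classInner (cut p 1 (g j)) (fun c : H => (χ : G → ℂ) ((yH : G) ^ γ * (c : G))) with ha
  have hpars : ∀ γ ∈ Γ, ∀ j, ∑ χ : IrrCharacter G, Complex.normSq (a j χ γ) =
      (classInner (cut p 1 (g j)) (g j)).re := by
    intro γ hγ j
    have h := section_parseval_pow' p H yH hHy n hy γ (Finset.mem_filter.mp hγ).2 (g j) (hcl j)
    have h2 := congrArg Complex.re h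
    rw [Complex.re_sum] at h2
    rw [← h2]
    refine Finset.sum_congr rfl (fun χ _ => ?_)
    rw [Complex.mul_conj, Complex.ofReal_re]
  have htotal : ∑ χ : IrrCharacter G, ∑ j, ∑ γ ∈ Γ, Complex.normSq (a j χ γ) =
      ((p ^ n).totient : ℝ) * ((2 * N0 : ℕ) : ℝ) := by
    rw [Finset.sum_comm]
    have hj : ∀ j, ∑ χ : IrrCharacter G, ∑ γ ∈ Γ, Complex.normSq (a j χ γ) =
        ((p ^ n).totient : ℝ) * (classInner (cut p 1 (g j)) (g j)).re := by
      intro j
      rw [Finset.sum_comm, Finset.sum_congr rfl (fun γ hγ => hpars γ hγ j), Finset.sum_const,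
        hΓcard, nsmul_eq_mul]
    rw [Finset.sum_congr rfl (fun j _ => hj j), ← Finset.mul_sum]
    have h3 := congrArg Complex.re hnorm
    rw [Complex.re_sum, Complex.natCast_re] at h3
    rw [h3]
  have hnonneg : ∀ (χ : IrrCharacter G) (j : ι), 0 ≤ ∑ γ ∈ Γ, Complex.normSq (a j χ γ) :=
    fun χ j => Finset.sum_nonneg (fun _ _ => Complex.normSq_nonneg _)
  have hlow : ∀ χ ∈ S, 2 * ((p ^ n).totient : ℝ) ≤ ∑ j, ∑ γ ∈ Γ, Complex.normSq (a j χ γ) := by
    intro χ hχ
    obtain ⟨j1, j2, hne, h1, h2⟩ := hS χ hχ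
    have hone : ∀ j, classInner (cut p 1 (g j))
        (fun c : H => (χ : G → ℂ) ((yH : G) * (c : G))) ≠ 0 →
        ((p ^ n).totient : ℝ) ≤ ∑ γ ∈ Γ, Complex.normSq (a j χ γ) := by
      intro j hj
      obtain ⟨A, μ, hμ, hform⟩ := exists_pow_form_test' p H yH hyc n hyH (g j) (hint j) χ
      have h1' : ∑ i ∈ Finset.univ, (A i : ℂ) * μ i ≠ 0 := by
        have := hform 1
        simp only [pow_one] at this
        rw [← this]
        exact hj
      have := Helper16.sum_normSq_ge_totient hpr n Finset.univ A μ (fun i _ => hμ i) h1'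
      refine this.trans (le_of_eq ?_)
      refine Finset.sum_congr rfl (fun γ _ => ?_)
      rw [← hform γ]
    calc 2 * ((p ^ n).totient : ℝ) = ((p ^ n).totient : ℝ) + ((p ^ n).totient : ℝ) := by ring
      _ ≤ ∑ j ∈ ({j1, j2} : Finset ι), ∑ γ ∈ Γ, Complex.normSq (a j χ γ) := by
          rw [Finset.sum_pair hne]
          exact add_le_add (hone j1 h1) (hone j2 h2)
      _ ≤ ∑ j, ∑ γ ∈ Γ, Complex.normSq (a j χ γ) :=
          Finset.sum_le_sum_of_subset_of_nonneg (Finset.subset_univ _)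
            (fun j _ _ => hnonneg χ j)
  have hmain : (S.card : ℝ) * (2 * ((p ^ n).totient : ℝ)) ≤
      ((p ^ n).totient : ℝ) * ((2 * N0 : ℕ) : ℝ) := by
    calc (S.card : ℝ) * (2 * ((p ^ n).totient : ℝ))
        = ∑ _χ ∈ S, 2 * ((p ^ n).totient : ℝ) := by rw [Finset.sum_const, nsmul_eq_mul]
      _ ≤ ∑ χ ∈ S, ∑ j, ∑ γ ∈ Γ, Complex.normSq (a j χ γ) := Finset.sum_le_sum hlow
      _ ≤ ∑ χ : IrrCharacter G, ∑ j, ∑ γ ∈ Γ, Complex.normSq (a j χ γ) :=
          Finset.sum_le_sum_of_subset_of_nonneg (Finset.subset_univ _)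
            (fun χ _ _ => Finset.sum_nonneg (fun j _ => hnonneg χ j))
      _ = ((p ^ n).totient : ℝ) * ((2 * N0 : ℕ) : ℝ) := htotal
  have hfin : (S.card : ℝ) ≤ (N0 : ℝ) := by
    push_cast at hmain
    nlinarith
  exact_mod_cast hfin

end Cfsg.Agent.Helper77.KW
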