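import Cfsg.Agent.Helper77.KW.Glue
import Cfsg.Agent.Helper77.KW.PartT
import Cfsg.Agent.Helper66.KWR1
import Cfsg.Agent.Helper66.KWR5
import Cfsg.Agent.Helper66.KWC3
import Cfsg.Agent.Helper42.KWR3
import Cfsg.Agent.Helper42.KWC2
import Cfsg.Agent.Helper78.KWL4
import Cfsg.Agent.S4428

/-!
# S4588 (helper77): assembly
-/

set_option autoImplicit false

namespace Cfsg.Agent.Helper77.KW

open Cfsg
open scoped ComplexConjugate
open Cfsg.Agent.S4426 (cut)
open Cfsg.Agent.Helper66.KW (exists_section sylow_comm_of_factorization_le_two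
  exists_two_test_ne_zero)
open Cfsg.Agent.Helper42.KW (isInducedBlock_principal_centralizer sum_test_norm)
open Cfsg.Agent.Helper78.KW (exists_lift_inner_ne_zero)

universe u

variable {G : Type u} [Group G] [Fintype G]

/-- the count, for a subgroup `H = C_G(y)` with `y` of order `p^n`, `ν_p|H| ≤ min (n+1) 2`. -/
theorem card_le_aux (p : ℕ) [hp : Fact p.Prime] (M : Ideal AlgInt)
    (hM : IsPModular p M) (H : Subgroup G) [Fintype H] (yH : H)
    (hyc : yH ∈ Subgroup.center H) (hHy : H = Subgroup.centralizer ({(yH : G)} : Set G))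
    (n : ℕ) (hy : orderOf (yH : G) = p ^ n)
    (h1 : (Nat.card H).factorization p ≤ n + 1) (h2 : (Nat.card H).factorization p ≤ 2)
    (S : Finset (IrrCharacter G))
    (hS : ∀ χ ∈ S, ∃ c : H, ¬ p ∣ orderOf c ∧
      blockPart (principalBlock M H) (fun c : H => (χ : G → ℂ) ((yH : G) * (c : G))) c ≠ 0) :
    S.card ≤ p ^ 2 := by
  have hnormal : (Subgroup.zpowers yH).Normal := by
    refine ⟨fun x hx g => ?_⟩
    have hxc : x ∈ Subgroup.center H := (Subgroup.zpowers_le).mpr hyc hx
    have : g * x * g⁻¹ = x := by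
      rw [(Subgroup.mem_center_iff.mp hxc) g, mul_inv_cancel_right]
    rw [this]
    exact hx
  have hzn : orderOf yH = p ^ n := by
    rw [← hy]
    exact (Subgroup.orderOf_coe yH).symm
  have hK1 := factorization_card_quotient_zpowers p yH n hzn
  have hK : (Nat.card (H ⧸ Subgroup.zpowers yH)).factorization p ≤ 1 := by omega
  obtain ⟨D, hD⟩ := exists_pimData p M hM hK
  obtain ⟨Q⟩ : Nonempty (Sylow p H) := inferInstance
  have hQ := sylow_comm_of_factorization_le_two p h2 Q
  have hcount := card_le_of_tests' p H yH hyc hHy n hy (test yH n D) (isClassFunction_test yH n D)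
    (fun j ξ => test_int yH n D hM hyc hzn Q (fun a b ha hb => hQ a b ha hb) j ξ)
    (p ^ n * (D.e + D.t)) (sum_test_norm yH n D hM hyc hzn) S ?_
  · refine hcount.trans ?_
    calc p ^ n * (D.e + D.t)
        ≤ p ^ n * p ^ (Nat.card (H ⧸ Subgroup.zpowers yH)).factorization p :=
          Nat.mul_le_mul_left _ hD
      _ = p ^ (Nat.card H).factorization p := by
          rw [← pow_add, ← hK1, add_comm]
      _ ≤ p ^ 2 := Nat.pow_le_pow_right hp.out.pos h2
  · intro χ hχ
    obtain ⟨c, hc, hne⟩ := hS χ hχ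
    have hF : IsClassFunction H (fun c : H => (χ : G → ℂ) ((yH : G) * (c : G))) := by
      intro g h
      have hcomm : (yH : G) * (h : G) = (h : G) * (yH : G) := by
        have := (Subgroup.mem_center_iff.mp hyc) h
        exact (congrArg Subtype.val this).symm
      have : (yH : G) * ((h * g * h⁻¹ : H) : G) = (h : G) * ((yH : G) * (g : G)) * (h : G)⁻¹ := by
        push_cast
        rw [← mul_assoc, ← mul_assoc, hcomm]
        group
      show (χ : G → ℂ) ((yH : G) * ((h * g * h⁻¹ : H) : G)) = _
      rw [this]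
      exact Helper16.irr_isClassFunction χ _ _
    exact exists_two_test_ne_zero yH n D _
      (exists_lift_inner_ne_zero yH n D hM hyc hzn _ hF c hc hne)

/-- **S4588** for a `Fintype` group. -/
theorem main (p : ℕ) [Fact p.Prime] (M : Ideal AlgInt) (hM : IsPModular p M)
    (hx : ∃ x : G, (∃ k : ℕ, orderOf x = p ^ k) ∧
      (Nat.card (Subgroup.centralizer ({x} : Set G))).factorization p ≤ 2) :
    Nat.card {χ : IrrCharacter G //
      χ ∈ principalBlock M G ∧ ¬ p ∣ charDegree (χ : G → ℂ)} ≤ p ^ 2 := by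
  classical
  obtain ⟨y, n, hyn, h1, h2⟩ := exists_section p hx
  let _ : Fintype (Subgroup.centralizer ({y} : Set G)) := Fintype.ofFinite _
  have hyH : y ∈ Subgroup.centralizer ({y} : Set G) :=
    Subgroup.mem_centralizer_singleton_iff.mpr rfl
  have hyc : (⟨y, hyH⟩ : Subgroup.centralizer ({y} : Set G)) ∈
      Subgroup.center (Subgroup.centralizer ({y} : Set G)) := by
    rw [Subgroup.mem_center_iff]
    intro h
    apply Subtype.ext
    exact Subgroup.mem_centralizer_singleton_iff.mp h.2
  have key := card_le_aux p M hM (Subgroup.centralizer ({y} : Set G)) ⟨y, hyH⟩ hyc rfl n hyn h1 h2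
    (Finset.univ.filter (fun χ : IrrCharacter G =>
      χ ∈ principalBlock M G ∧ ¬ p ∣ charDegree (χ : G → ℂ))) ?_
  · rw [Nat.card_eq_fintype_card, Fintype.card_subtype]
    exact key
  · intro χ hχ
    rw [Finset.mem_filter] at hχ
    have h0 := blockHeight_principal_eq_zero p M hM χ hχ.2.1 hχ.2.2
    have hind := isInducedBlock_principal_centralizer p M hM y ⟨n, hyn⟩
    exact Cfsg.Agent.S4428.result p M hM (principalBlock M G) hind.2.1 χ hχ.2.1 h0 y ⟨n, hyn⟩ _ hind

end Cfsg.Agent.Helper77.KW
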